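import Mathlib

/-! Index computations for lattices scaled by diagonal matrices. -/

set_option autoImplicit false

open Finset

namespace Groth.Agent.LabDetH28

universe u

variable {V : Type u} [Fintype V] [DecidableEq V]

theorem gcd_nonneg (δ : V → ℤ) : 0 ≤ univ.gcd δ :=
  Int.nonneg_of_normalize_eq_self Finset.normalize_gcd

/-- The weighted coordinate sum. -/
def wsum (δ : V → ℤ) : (V → ℤ) →ₗ[ℤ] ℤ :=
  (∑ i : V, (LinearMap.proj i : (V → ℤ) →ₗ[ℤ] ℤ)) ∘ₗ Matrix.mulVecLin (Matrix.diagonal δ)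

theorem wsum_apply (δ x : V → ℤ) : wsum δ x = ∑ i, δ i * x i := by
  simp [wsum, Matrix.mulVec_diagonal]

/-- The coordinate sum. -/
def tsum' : (V → ℤ) →ₗ[ℤ] ℤ := ∑ i : V, (LinearMap.proj i : (V → ℤ) →ₗ[ℤ] ℤ)

theorem tsum'_apply (x : V → ℤ) : tsum' x = ∑ i, x i := by simp [tsum']

/-- Cardinality of a quotient of submodules as a relative index. -/
theorem natCard_quot (K I : Submodule ℤ (V → ℤ)) :
    Nat.card (K ⧸ I.comap K.subtype) = I.toAddSubgroup.relIndex K.toAddSubgroup := rfl

/-- Multiplication by a diagonal. -/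
abbrev dg (δ : V → ℤ) : (V → ℤ) →+ (V → ℤ) :=
  (Matrix.mulVecLin (Matrix.diagonal δ)).toAddMonoidHom

theorem dg_injective {δ : V → ℤ} (hδ : ∀ i, δ i ≠ 0) : Function.Injective (dg δ) := by
  intro x y h
  funext i
  have h1 := congrFun h i
  simp only [dg, LinearMap.toAddMonoidHom_coe, Matrix.mulVecLin_apply, Matrix.mulVec_diagonal] at h1
  exact mul_left_cancel₀ (hδ i) h1

theorem index_range_dg {δ : V → ℤ} (hδ : ∀ i, δ i ≠ 0) :
    (dg δ).range.index = (∏ i, δ i).natAbs := by
  let e : (dg δ).range ≃+ (V → ℤ) := (AddMonoidHom.ofInjective (dg_injective hδ)).symm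
  let bN : Module.Basis V ℤ (dg δ).range := (Pi.basisFun ℤ V).map e.symm.toIntLinearEquiv
  rw [AddSubgroup.index_eq_natAbs_det (Pi.basisFun ℤ V) _ bN, ← Matrix.det_diagonal,
    Pi.basisFun_det_apply]
  congr 1
  rw [← Matrix.det_transpose]
  congr 1
  ext i j
  simp [bN, e, AddMonoidHom.ofInjective_apply, Matrix.mulVec_single, Matrix.diagonal_apply, Pi.single_apply]
  split_ifs with h <;> simp_all

theorem exists_bezout (δ : V → ℤ) : ∃ c : V → ℤ, ∑ i, δ i * c i = univ.gcd δ := by
  have hspan : univ.gcd δ ∈ Ideal.span (Set.range δ) := by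
    obtain ⟨g, hg⟩ := (IsPrincipalIdealRing.principal (Ideal.span (Set.range δ))).principal
    have hmem : ∀ i, g ∣ δ i := fun i => Ideal.mem_span_singleton.1
      (show δ i ∈ Ideal.span {g} from hg.le (Ideal.subset_span ⟨i, rfl⟩))
    rw [hg]
    exact Ideal.mem_span_singleton.2 (Finset.dvd_gcd fun i _ => hmem i)
  obtain ⟨c, hc⟩ := (Ideal.mem_span_range_iff_exists_fun).1 hspan
  exact ⟨c, by rw [← hc]; exact Finset.sum_congr rfl fun i _ => mul_comm _ _⟩

/-- `#(ker SD / I) · |det D| = gcd(D) · #(ker S / D I)`. -/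
theorem relIndex_scale [Nonempty V] {δ : V → ℤ} (hδ : ∀ i, δ i ≠ 0) (I : AddSubgroup (V → ℤ))
    (hI : I ≤ (LinearMap.ker (wsum δ)).toAddSubgroup) :
    (I.relIndex (LinearMap.ker (wsum δ)).toAddSubgroup : ℤ) * |∏ i, δ i| =
      (univ.gcd δ) * ((I.map (dg δ)).relIndex (LinearMap.ker (tsum' (V := V))).toAddSubgroup : ℤ) := by
  set K := (LinearMap.ker (wsum δ)).toAddSubgroup with hK
  set K₀ := (LinearMap.ker (tsum' (V := V))).toAddSubgroup with hK₀
  set Z := (dg δ).range with hZ
  have hKp : K.map (dg δ) = Z ⊓ K₀ := by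
    ext y
    simp only [AddSubgroup.mem_map, AddSubgroup.mem_inf, hK, hK₀, hZ, AddMonoidHom.mem_range,
      Submodule.mem_toAddSubgroup, LinearMap.mem_ker]
    constructor
    · rintro ⟨x, hx, rfl⟩; exact ⟨⟨x, rfl⟩, hx⟩
    · rintro ⟨⟨x, rfl⟩, hy⟩; exact ⟨x, hy, rfl⟩
  have h1 : (I.map (dg δ)).relIndex (K.map (dg δ)) = I.relIndex K :=
    AddSubgroup.relIndex_map_map_of_injective _ _ (dg_injective hδ)
  have h2 : (I.map (dg δ)).relIndex K₀ = I.relIndex K * (K.map (dg δ)).relIndex K₀ := by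
    rw [← h1, AddSubgroup.relIndex_mul_relIndex]
    · exact AddSubgroup.map_mono hI
    · rw [hKp]; exact inf_le_right
  have h3 : (K.map (dg δ)).relIndex K₀ = Z.relIndex (K₀ ⊔ Z) := by
    rw [hKp, AddSubgroup.inf_relIndex_right, AddSubgroup.relIndex_sup_right]
  obtain ⟨i₀⟩ := (inferInstance : Nonempty V)
  have h5 : (K₀ ⊔ Z).index = (univ.gcd δ).natAbs := by
    obtain ⟨c, hc⟩ := exists_bezout δ
    let f : (V → ℤ) →+ ℤ := (tsum' (V := V)).toAddMonoidHom
    have hf : Function.Surjective f := fun z => ⟨Pi.single i₀ z, by simp [f, tsum'_apply]⟩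
    have h : K₀ ⊔ Z = (AddSubgroup.zmultiples (univ.gcd δ)).comap f := by
      refine le_antisymm (sup_le (fun x hx => ?_) ?_) fun x hx => ?_
      · show f x ∈ AddSubgroup.zmultiples (univ.gcd δ)
        rw [show f x = 0 from hx]
        exact zero_mem _
      · rintro _ ⟨x, rfl⟩
        show f (dg δ x) ∈ AddSubgroup.zmultiples (univ.gcd δ)
        rw [Int.mem_zmultiples_iff, show f (dg δ x) = ∑ i, δ i * x i from wsum_apply δ x]
        exact Finset.dvd_sum fun i hi => Dvd.dvd.mul_right (Finset.gcd_dvd hi) _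
      · obtain ⟨t, ht⟩ := AddSubgroup.mem_zmultiples_iff.1
          (show f x ∈ AddSubgroup.zmultiples (univ.gcd δ) from hx)
        have hw : f (dg δ (t • c)) = f x := by
          rw [map_zsmul, map_zsmul, show f (dg δ c) = ∑ i, δ i * c i from wsum_apply δ c, hc, ht]
        rw [← sub_add_cancel x (dg δ (t • c))]
        refine add_mem (AddSubgroup.mem_sup_left (?_ : f (x - dg δ (t • c)) = 0))
          (AddSubgroup.mem_sup_right ⟨_, rfl⟩)
        rw [map_sub, hw, sub_self]
    rw [h, AddSubgroup.index_comap_of_surjective _ hf, Int.index_zmultiples]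
  have h4 := AddSubgroup.relIndex_mul_index (H := Z) (K := K₀ ⊔ Z) le_sup_right
  rw [h5, index_range_dg hδ] at h4
  rw [h2, h3, Int.abs_eq_natAbs, ← h4]
  push_cast
  rw [abs_of_nonneg (gcd_nonneg δ)]
  ring

/-- A primitive generator of the line through `δ`. -/
theorem exists_primitive [Nonempty V] {δ : V → ℤ} (hδ : ∀ i, δ i ≠ 0) :
    ∃ u : V → ℤ, δ = (univ.gcd δ) • u ∧ (∀ i, u i ≠ 0) ∧ ∀ (a b : ℤ) (x : V → ℤ),
      a ≠ 0 → a • x = b • δ → ∃ t : ℤ, x = t • u := by
  have hd : univ.gcd δ ≠ 0 := fun h => hδ (Classical.arbitrary V)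
    (Finset.gcd_eq_zero_iff.1 h _ (mem_univ _))
  choose u hu using fun i => Finset.gcd_dvd (f := δ) (mem_univ i)
  refine ⟨u, funext hu, fun i h => hδ i (by rw [hu i, h, mul_zero]), fun a b x ha hx => ?_⟩
  obtain ⟨c, hc⟩ := exists_bezout δ
  refine ⟨∑ i, c i * x i, funext fun j => mul_left_cancel₀ ha ?_⟩
  have hxi : ∀ i, a * x i = b * (univ.gcd δ * u i) := fun i => by
    rw [← hu i]; simpa using congrFun hx i
  have h1 : a * ∑ i, c i * x i = b * univ.gcd δ := by
    rw [Finset.mul_sum]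
    calc ∑ i, a * (c i * x i) = ∑ i, b * (δ i * c i) := Finset.sum_congr rfl fun i _ => by
          rw [mul_left_comm, hxi, ← hu]; ring
      _ = b * univ.gcd δ := by rw [← Finset.mul_sum, hc]
  rw [Pi.smul_apply, smul_eq_mul, ← mul_assoc, h1, hxi]
  ring

/-- `[im A : im A D'] · gcd(D') = |det D'|` when `ker A` is the line through `δ'`. -/
theorem relIndex_right [Nonempty V] {δ' : V → ℤ} (hδ' : ∀ i, δ' i ≠ 0)
    (A : (V → ℤ) →+ (V → ℤ)) (hAδ : A δ' = 0)
    (hker : ∀ x, A x = 0 → ∃ a b : ℤ, a ≠ 0 ∧ a • x = b • δ') :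
    (((dg δ').range.map A).relIndex A.range : ℤ) * (univ.gcd δ') = |∏ i, δ' i| := by
  obtain ⟨u, hu, hu0, hprim⟩ := exists_primitive hδ'
  have hd : univ.gcd δ' ≠ 0 := fun h => hδ' (Classical.arbitrary V)
    (Finset.gcd_eq_zero_iff.1 h _ (mem_univ _))
  have hkerA : A.ker = AddSubgroup.zmultiples u := by
    refine le_antisymm (fun x hx => ?_) ?_
    · obtain ⟨a, b, ha, hab⟩ := hker x hx
      obtain ⟨t, rfl⟩ := hprim a b x ha hab
      exact AddSubgroup.zsmul_mem_zmultiples _ _
    · rw [AddSubgroup.zmultiples_le]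
      rw [hu, map_zsmul] at hAδ
      exact (smul_eq_zero.1 hAδ).resolve_left hd
  rw [show A.range = (⊤ : AddSubgroup (V → ℤ)).map A from A.range_eq_map, AddSubgroup.relIndex_map_map,
    top_sup_eq, AddSubgroup.relIndex_top_right, hkerA]
  set Z := (dg δ').range with hZ
  have h1 := AddSubgroup.relIndex_mul_index (H := Z) (K := Z ⊔ AddSubgroup.zmultiples u) le_sup_left
  have h2 : Z.relIndex (Z ⊔ AddSubgroup.zmultiples u) = (univ.gcd δ').natAbs := by
    rw [sup_comm, AddSubgroup.relIndex_sup_right, ← AddSubgroup.range_zmultiplesHom,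
      ← AddSubgroup.index_comap]
    have : Z.comap (zmultiplesHom (V → ℤ) u) = AddSubgroup.zmultiples (univ.gcd δ') := by
      ext t
      rw [AddSubgroup.mem_comap, zmultiplesHom_apply, Int.mem_zmultiples_iff, hZ, AddMonoidHom.mem_range]
      constructor
      · rintro ⟨y, hy⟩
        obtain ⟨i⟩ := (inferInstance : Nonempty V)
        refine ⟨y i, mul_left_cancel₀ (hu0 i) ?_⟩
        have hyi : δ' i * y i = t * u i := by
          simpa [dg, Matrix.mulVec_diagonal] using congrFun hy i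
        have hui : δ' i = univ.gcd δ' * u i := by simpa using congrFun hu i
        rw [← mul_assoc, mul_comm (u i) (univ.gcd δ'), ← hui, hyi, mul_comm]
      · rintro ⟨s, rfl⟩
        refine ⟨fun _ => s, funext fun i => ?_⟩
        have := congrFun hu i
        simp [dg, Matrix.mulVec_diagonal, this]
        ring
    rw [this, Int.index_zmultiples]
  rw [h2, index_range_dg hδ'] at h1
  rw [Int.abs_eq_natAbs, ← h1]
  push_cast
  rw [abs_of_nonneg (gcd_nonneg δ')]
  ring

/-- The index of the range of a nonsingular integer matrix is the absolute value of its determinant. -/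
theorem index_range_mulVec (M : Matrix V V ℤ) (hM : M.det ≠ 0) :
    M.mulVecLin.toAddMonoidHom.range.index = M.det.natAbs := by
  have hinj : Function.Injective M.mulVecLin.toAddMonoidHom := fun x y h => by
    by_contra hne
    exact hM (Matrix.exists_mulVec_eq_zero_iff.1 ⟨x - y, sub_ne_zero.2 hne, by rw [Matrix.mulVec_sub]; exact sub_eq_zero.2 h⟩)
  let e : M.mulVecLin.toAddMonoidHom.range ≃+ (V → ℤ) := (AddMonoidHom.ofInjective hinj).symm
  let bN : Module.Basis V ℤ M.mulVecLin.toAddMonoidHom.range := (Pi.basisFun ℤ V).map e.symm.toIntLinearEquiv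
  rw [AddSubgroup.index_eq_natAbs_det (Pi.basisFun ℤ V) _ bN, Pi.basisFun_det_apply]
  congr 1
  rw [← Matrix.det_transpose]
  congr 1
  ext i j
  simp [bN, e, AddMonoidHom.ofInjective_apply, Matrix.mulVec_single]

/-- For a matrix with zero row and column sums, the cokernel inside the sum-zero lattice. -/
theorem relIndex_laplacian (L : Matrix V V ℤ) (v₀ : V) (hrow : ∀ v, ∑ w, L v w = 0)
    (hcol : ∀ w, ∑ v, L v w = 0)
    (hdet : (L.submatrix (fun v : {v // v ≠ v₀} => v.1) (fun v : {v // v ≠ v₀} => v.1)).det ≠ 0) :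
    L.mulVecLin.toAddMonoidHom.range.relIndex (LinearMap.ker (tsum' (V := V))).toAddSubgroup =
      (L.submatrix (fun v : {v // v ≠ v₀} => v.1) (fun v : {v // v ≠ v₀} => v.1)).det.natAbs := by
  set M := L.submatrix (fun v : {v // v ≠ v₀} => v.1) (fun v : {v // v ≠ v₀} => v.1) with hMdef
  let g : ({v // v ≠ v₀} → ℤ) →+ (V → ℤ) :=
    { toFun := fun y v => if h : v = v₀ then -∑ u, y u else y ⟨v, h⟩
      map_zero' := by funext v; by_cases h : v = v₀ <;> simp [h]
      map_add' := fun a b => by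
        funext v
        by_cases h : v = v₀ <;> simp [h, Finset.sum_add_distrib]; ring }
  have hginj : Function.Injective g := fun a b h => by
    funext u
    have := congrFun h u.1
    simpa [g, u.2] using this
  have hsplit : ∀ F : V → ℤ, ∑ v, F v = F v₀ + ∑ u : {v // v ≠ v₀}, F u.1 := fun F => by
    rw [← Finset.add_sum_erase _ _ (mem_univ v₀),
      Finset.sum_subtype (univ.erase v₀) (p := fun v => v ≠ v₀) (by simp)]
  have hK : (LinearMap.ker (tsum' (V := V))).toAddSubgroup = g.range := by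
    ext x
    simp only [Submodule.mem_toAddSubgroup, LinearMap.mem_ker, tsum'_apply, AddMonoidHom.mem_range]
    constructor
    · intro hx
      refine ⟨fun u => x u.1, funext fun v => ?_⟩
      by_cases h : v = v₀
      · subst h
        rw [hsplit] at hx
        simp [g]
        linarith
      · simp [g, h]
    · rintro ⟨y, rfl⟩
      have hg0 : g y v₀ = -∑ u, y u := dif_pos rfl
      rw [hsplit, hg0, Finset.sum_congr rfl fun u _ => show g y u.1 = y u from dif_neg u.2,
        neg_add_cancel]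
  have hI : L.mulVecLin.toAddMonoidHom.range = M.mulVecLin.toAddMonoidHom.range.map g := by
    have key : ∀ (x : V → ℤ), L.mulVec x = g (M.mulVec fun u => x u.1 - x v₀) := by
      intro x
      have hu : ∀ v, L.mulVec x v = ∑ u : {v // v ≠ v₀}, L v u.1 * (x u.1 - x v₀) := fun v => by
        have h1 := hrow v
        rw [hsplit] at h1
        rw [Matrix.mulVec, dotProduct, hsplit]
        simp only [mul_sub, Finset.sum_sub_distrib, ← Finset.sum_mul]
        linear_combination x v₀ * h1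
      funext v
      by_cases h : v = v₀
      · subst h
        have hsum : ∑ w, L.mulVec x w = 0 := by
          simp only [Matrix.mulVec, dotProduct]
          rw [Finset.sum_comm]
          simp [← Finset.sum_mul, hcol]
        rw [hsplit] at hsum
        show _ = dite _ _ _
        rw [dif_pos rfl]
        have : ∀ u : {w // w ≠ v}, M.mulVec (fun u => x u.1 - x v) u = L.mulVec x u.1 := fun u => (hu u.1).symm
        simp only [this]
        linarith
      · show _ = dite _ _ _
        rw [dif_neg h, hu]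
        rfl
    ext y
    simp only [AddMonoidHom.mem_range, AddSubgroup.mem_map, LinearMap.toAddMonoidHom_coe,
      Matrix.mulVecLin_apply]
    constructor
    · rintro ⟨x, rfl⟩
      exact ⟨_, ⟨_, rfl⟩, (key x).symm⟩
    · rintro ⟨_, ⟨z, rfl⟩, rfl⟩
      refine ⟨fun v => if h : v = v₀ then 0 else z ⟨v, h⟩, ?_⟩
      rw [key]
      congr 2
      funext u
      simp [u.2]
  rw [hI, hK, AddMonoidHom.range_eq_map g, AddSubgroup.relIndex_map_map_of_injective _ _ hginj,
    AddSubgroup.relIndex_top_right, index_range_mulVec M hdet]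

/-- The two scalings together. -/
theorem relIndex_both [Nonempty V] {δ δ' : V → ℤ} (hδ : ∀ i, δ i ≠ 0) (hδ' : ∀ i, δ' i ≠ 0)
    (A : Matrix V V ℤ)
    (hI : A.mulVecLin.toAddMonoidHom.range ≤ (LinearMap.ker (wsum δ)).toAddSubgroup)
    (hAδ : A.mulVec δ' = 0) (hker : ∀ x, A.mulVec x = 0 → ∃ a b : ℤ, a ≠ 0 ∧ a • x = b • δ') :
    (A.mulVecLin.toAddMonoidHom.range.relIndex (LinearMap.ker (wsum δ)).toAddSubgroup : ℤ) *
        |∏ i, δ i| * |∏ i, δ' i| =
      univ.gcd δ * univ.gcd δ' * ((Matrix.diagonal δ * A * Matrix.diagonal δ').mulVecLin.toAddMonoidHom.range.relIndex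
        (LinearMap.ker (tsum' (V := V))).toAddSubgroup : ℤ) := by
  have h := relIndex_scale hδ _ hI
  have h' := relIndex_right hδ' A.mulVecLin.toAddMonoidHom hAδ hker
  set a := A.mulVecLin.toAddMonoidHom with ha
  set J := ((dg δ').range.map a).map (dg δ) with hJ
  have hJ' : J = (Matrix.diagonal δ * A * Matrix.diagonal δ').mulVecLin.toAddMonoidHom.range := by
    ext y
    simp only [hJ, ha, dg, AddSubgroup.mem_map, AddMonoidHom.mem_range, LinearMap.toAddMonoidHom_coe,
      Matrix.mulVecLin_apply, ← Matrix.mulVec_mulVec]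
    constructor
    · rintro ⟨_, ⟨_, ⟨x, rfl⟩, rfl⟩, rfl⟩; exact ⟨x, rfl⟩
    · rintro ⟨x, rfl⟩; exact ⟨_, ⟨_, ⟨x, rfl⟩, rfl⟩, rfl⟩
  have h1 : J.relIndex (a.range.map (dg δ)) = ((dg δ').range.map a).relIndex a.range :=
    AddSubgroup.relIndex_map_map_of_injective _ _ (dg_injective hδ)
  have h2 := AddSubgroup.relIndex_mul_relIndex J (a.range.map (dg δ))
    (LinearMap.ker (tsum' (V := V))).toAddSubgroup
    (AddSubgroup.map_mono (by rintro _ ⟨x, -, rfl⟩; exact ⟨x, rfl⟩))
    (by rintro _ ⟨x, hx, rfl⟩; exact hI hx)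
  rw [h1] at h2
  rw [← hJ', ← h2, h, ← h']
  push_cast
  ring

end Groth.Agent.LabDetH28
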