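import Mathlib
import Groth.Prelude.Def_W4c2conddiscmodels
import Groth.Agent.Lib.VerlindeH28.Basic
import Groth.Agent.Lib.LabDetH28.Index

/-! Spanning trees, circuits and the weighted matrix-tree theorem for multigraphs. -/

set_option autoImplicit false

open Finset LabGraph

namespace Groth.Agent.LabDetH28

universe u

variable {V E : Type u} [Fintype V] [Fintype E] [DecidableEq V] [DecidableEq E]

/-- The incidence matrix (head minus tail). -/
def inc (R : Type*) [CommRing R] (ends : E → V × V) : Matrix V E R := fun v e =>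
  (if (ends e).2 = v then 1 else 0) - (if (ends e).1 = v then 1 else 0)

/-- The incidence matrix without the row of `v₀`. -/
def incRed (R : Type*) [CommRing R] (ends : E → V × V) (v₀ : V) : Matrix {v // v ≠ v₀} E R :=
  (inc R ends).submatrix (fun v => v.1) id

variable {R : Type*} [CommRing R]

omit [Fintype E] [DecidableEq E] in
theorem inc_sum (ends : E → V × V) (e : E) (S : Finset V) :
    ∑ v ∈ S, inc R ends v e = (if (ends e).2 ∈ S then 1 else 0) - (if (ends e).1 ∈ S then 1 else 0) := by
  simp only [inc, Finset.sum_sub_distrib, Finset.sum_ite_eq]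

/-- Path vectors: in a connected graph the reduced incidence matrix is surjective. -/
theorem exists_mulVec_eq {ends : E → V × V} (hG : Connected ends) (v₀ : V)
    (y : {v // v ≠ v₀} → R) : ∃ x, (incRed R ends v₀).mulVec x = y := by
  let δ : V → ({v // v ≠ v₀} → R) := fun v w => if v = w.1 then 1 else 0
  let L := LinearMap.range (incRed R ends v₀).mulVecLin
  have hδ : ∀ v, δ v ∈ L := by
    intro v
    induction hG.2 v₀ v with
    | refl =>
      have : δ v₀ = 0 := funext fun w => if_neg (Ne.symm w.2)
      rw [this]; exact zero_mem _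
    | @tail b c _ hbc ih =>
      obtain ⟨e, he⟩ := hbc
      have h1 : δ (ends e).2 - δ (ends e).1 ∈ L := ⟨Pi.single e 1, by
        funext w
        simp [δ, incRed, inc, Matrix.mulVec_single, eq_comm]⟩
      rcases he with he | he <;> rw [he] at h1
      · simpa using add_mem h1 ih
      · simpa using sub_mem ih h1
  have hy : y = ∑ w : {v // v ≠ v₀}, y w • δ w.1 := by
    funext w
    simp [δ, Finset.sum_apply, ← Subtype.ext_iff]
  have : y ∈ L := hy ▸ sum_mem fun w _ => L.smul_mem _ (hδ w.1)
  exact this

theorem card_le_of_connected {ends : E → V × V} (hG : Connected ends) :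
    Fintype.card V ≤ Fintype.card E + 1 := by
  obtain ⟨v₀⟩ := hG.1
  have h := LinearMap.finrank_range_le (incRed (ZMod 2) ends v₀).mulVecLin
  have hs : LinearMap.range (incRed (ZMod 2) ends v₀).mulVecLin = ⊤ :=
    LinearMap.range_eq_top.2 fun y => exists_mulVec_eq hG v₀ y
  rw [hs, finrank_top, Module.finrank_fintype_fun_eq_card, Module.finrank_fintype_fun_eq_card,
    Fintype.card_subtype_compl, Fintype.card_subtype_eq] at h
  omega

omit [Fintype E] in
theorem endCount_mod_two (ends : E → V × V) (C : Finset E) (v : V) :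
    (endCount ends C v : ZMod 2) = ∑ e ∈ C, inc (ZMod 2) ends v e := by
  rw [endCount]
  push_cast
  refine Finset.sum_congr rfl fun e _ => ?_
  simp only [inc]
  split_ifs <;> decide

omit [Fintype E] in
theorem even_iff (ends : E → V × V) (C : Finset E) (v : V) :
    Even (endCount ends C v) ↔ ∑ e ∈ C, inc (ZMod 2) ends v e = 0 := by
  rw [← endCount_mod_two, ZMod.natCast_eq_zero_iff_even]

omit [Fintype E] in
theorem exists_circuit_subset (ends : E → V × V) (C : Finset E) (hne : C.Nonempty)
    (h : ∀ v, Even (endCount ends C v)) : ∃ C' ⊆ C, IsCircuit ends C' := by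
  induction C using Finset.strongInduction with
  | H C ih =>
    by_cases hex : ∃ C' ⊂ C, C'.Nonempty ∧ ∀ v, Even (endCount ends C' v)
    · obtain ⟨C', hss, hne', hev⟩ := hex
      obtain ⟨C'', h1, h2⟩ := ih C' hss hne' hev
      exact ⟨C'', h1.trans hss.subset, h2⟩
    · push Not at hex
      exact ⟨C, subset_rfl, hne, h, fun C' hss hne' => hex C' hss hne'⟩

theorem card_le_of_forest {ends : E → V × V} (hne : Nonempty V) (hF : DualGr.IsForest ends) :
    Fintype.card E + 1 ≤ Fintype.card V := by
  obtain ⟨v₀⟩ := hne
  by_contra hlt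
  have hk : LinearMap.ker (incRed (ZMod 2) ends v₀).mulVecLin ≠ ⊥ := by
    intro h
    have h1 := LinearMap.finrank_le_finrank_of_injective (LinearMap.ker_eq_bot.1 h)
    rw [Module.finrank_fintype_fun_eq_card, Module.finrank_fintype_fun_eq_card,
      Fintype.card_subtype_compl, Fintype.card_subtype_eq] at h1
    have : 0 < Fintype.card V := Fintype.card_pos_iff.2 ⟨v₀⟩
    omega
  obtain ⟨x, hx, hx0⟩ := Submodule.exists_mem_ne_zero_of_ne_bot hk
  let C := univ.filter fun e => x e ≠ 0
  have hCne : C.Nonempty := by
    obtain ⟨e, he⟩ := Function.ne_iff.1 hx0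
    exact ⟨e, by simpa [C] using he⟩
  have hx1 : ∀ e, x e = if x e ≠ 0 then 1 else 0 := fun e => by
    generalize x e = a
    revert a
    decide
  have heq : ∀ v, v ≠ v₀ → ∑ e ∈ C, inc (ZMod 2) ends v e = 0 := by
    intro v hv
    have h1 := congrFun (LinearMap.mem_ker.1 hx) ⟨v, hv⟩
    rw [Matrix.mulVecLin_apply, Matrix.mulVec, dotProduct] at h1
    rw [Finset.sum_filter]
    refine (Finset.sum_congr rfl fun e _ => ?_).trans h1
    rw [hx1 e]
    simp [incRed]
  have hev : ∀ v, Even (endCount ends C v) := by
    intro v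
    rw [even_iff]
    by_cases hv : v = v₀
    · have h2 : ∑ w, ∑ e ∈ C, inc (ZMod 2) ends w e = 0 := by
        rw [Finset.sum_comm]
        exact Finset.sum_eq_zero fun e _ => by rw [inc_sum]; simp
      rw [← Finset.add_sum_erase _ _ (mem_univ v₀), Finset.sum_eq_zero (s := univ.erase v₀)
        (fun w hw => heq w (Finset.ne_of_mem_erase hw)), add_zero] at h2
      exact hv ▸ h2
    · exact heq v hv
  obtain ⟨C', -, hC'⟩ := exists_circuit_subset ends C hCne hev
  exact hF C' hC'

theorem forest_of_card_le {ends : E → V × V} (hG : Connected ends)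
    (hc : Fintype.card E + 1 ≤ Fintype.card V) : DualGr.IsForest ends := by
  obtain ⟨v₀⟩ := hG.1
  intro C hC
  have hinj : Function.Injective (incRed (ZMod 2) ends v₀).mulVecLin := by
    refine (LinearMap.injective_iff_surjective_of_finrank_eq_finrank ?_).2 fun y => exists_mulVec_eq hG v₀ y
    have := card_le_of_connected hG
    rw [Module.finrank_fintype_fun_eq_card, Module.finrank_fintype_fun_eq_card,
      Fintype.card_subtype_compl, Fintype.card_subtype_eq]
    omega
  have h1 : (incRed (ZMod 2) ends v₀).mulVecLin (fun e => if e ∈ C then 1 else 0) = 0 := by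
    funext v
    simp only [Matrix.mulVecLin_apply, Matrix.mulVec, dotProduct, mul_ite, mul_one, mul_zero,
      Finset.sum_ite_mem, Finset.univ_inter, Pi.zero_apply]
    exact (even_iff ends C v.1).1 (hC.2.1 v.1)
  rw [← map_zero (incRed (ZMod 2) ends v₀).mulVecLin] at h1
  obtain ⟨e, he⟩ := hC.1
  simpa [he] using congrFun (hinj h1) e

/-- A spanning tree is a connected spanning edge set with `#V - 1` edges. -/
theorem isSpanningTree_iff (ends : E → V × V) (T : Finset E) :
    IsSpanningTree ends T ↔
      Connected (fun e : T => ends e.1) ∧ T.card + 1 = Fintype.card V := by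
  constructor
  · intro h
    have h1 := card_le_of_connected h.1
    have h2 := card_le_of_forest h.1.1 h.2
    rw [Fintype.card_coe] at h1 h2
    exact ⟨h.1, by omega⟩
  · rintro ⟨h1, h2⟩
    exact ⟨h1, forest_of_card_le h1 (by rw [Fintype.card_coe]; omega)⟩

/-- Maximal minors of the reduced incidence matrix. -/
theorem det_sq (ends : E → V × V) (v₀ : V) (eT : {v // v ≠ v₀} → E) (hinj : Function.Injective eT)
    [Decidable (IsSpanningTree ends (univ.image eT))] :
    ((incRed ℤ ends v₀).submatrix id eT).det ^ 2 =
      if IsSpanningTree ends (univ.image eT) then 1 else 0 := by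
  set T := univ.image eT
  have hcard : T.card + 1 = Fintype.card V := by
    rw [Finset.card_image_of_injective _ hinj, Finset.card_univ, Fintype.card_subtype_compl,
      Fintype.card_subtype_eq]
    have : 0 < Fintype.card V := Fintype.card_pos_iff.2 ⟨v₀⟩
    omega
  let φ : {v // v ≠ v₀} ≃ T := Equiv.ofBijective (fun v => ⟨eT v, mem_image_of_mem _ (mem_univ v)⟩)
    ⟨fun a b h => hinj (congrArg Subtype.val h), fun ⟨t, ht⟩ => by
      obtain ⟨v, -, rfl⟩ := mem_image.1 ht
      exact ⟨v, rfl⟩⟩
  have hM : (incRed ℤ ends v₀).submatrix id eT =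
      (incRed ℤ (fun e : T => ends e.1) v₀).submatrix id φ := rfl
  by_cases hc : Connected (fun e : T => ends e.1)
  · rw [if_pos ((isSpanningTree_iff ends T).2 ⟨hc, hcard⟩)]
    have hs : Function.Surjective ((incRed ℤ ends v₀).submatrix id eT).mulVec := by
      intro y
      obtain ⟨x, hx⟩ := exists_mulVec_eq (R := ℤ) hc v₀ y
      refine ⟨x ∘ φ, ?_⟩
      rw [hM, ← hx]
      funext i
      simp only [Matrix.mulVec, dotProduct, Matrix.submatrix_apply, Function.comp_apply, id_eq]
      exact Equiv.sum_comp φ (fun j => incRed ℤ (fun e : T => ends e.1) v₀ i j * x j)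
    have hu := Matrix.isUnit_iff_isUnit_det _ |>.1 (Matrix.mulVec_surjective_iff_isUnit.1 hs)
    rcases Int.isUnit_iff.1 hu with h | h <;> simp [h]
  · rw [if_neg fun h => hc ((isSpanningTree_iff ends T).1 h).1]
    obtain ⟨a, ha⟩ : ∃ a, ¬ Relation.ReflTransGen (Adj fun e : T => ends e.1) v₀ a := by
      by_contra h
      push Not at h
      refine hc ⟨⟨v₀⟩, fun x y => ?_⟩
      haveI : Std.Symm (Adj fun e : T => ends e.1) := ⟨fun x y ⟨e, he⟩ => ⟨e, he.symm⟩⟩
      exact ((Std.Symm.symm v₀ x (h x))).trans (h y)
    classical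
    let g : {v // v ≠ v₀} → ℤ := fun v =>
      if Relation.ReflTransGen (Adj fun e : T => ends e.1) v₀ v.1 then 0 else 1
    have hg : g ≠ 0 := fun h0 => by
      have := congrFun h0 ⟨a, fun h => ha (h ▸ Relation.ReflTransGen.refl)⟩
      simp [g, ha] at this
    have h0 : Matrix.vecMul g ((incRed ℤ ends v₀).submatrix id eT) = 0 := by
      funext j
      rw [Matrix.vecMul, dotProduct]
      let S := univ.filter fun v => ¬ Relation.ReflTransGen (Adj fun e : T => ends e.1) v₀ v
      have h1 : ∑ v ∈ S, inc ℤ ends v (eT j) = 0 := by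
        have hiff : (ends (eT j)).1 ∈ S ↔ (ends (eT j)).2 ∈ S := by
          simp only [S, mem_filter, mem_univ, true_and, not_iff_not]
          have hadj : Adj (fun e : T => ends e.1) (ends (eT j)).1 (ends (eT j)).2 :=
            ⟨⟨eT j, mem_image_of_mem _ (mem_univ j)⟩, Or.inl rfl⟩
          have hadj' : Adj (fun e : T => ends e.1) (ends (eT j)).2 (ends (eT j)).1 :=
            ⟨⟨eT j, mem_image_of_mem _ (mem_univ j)⟩, Or.inr rfl⟩
          exact ⟨fun h => h.tail hadj, fun h => h.tail hadj'⟩
        rw [inc_sum]
        simp only [hiff, sub_self]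
      rw [Pi.zero_apply, ← h1]
      have hsub : S = S.filter (fun v => v ≠ v₀) := by
        refine (Finset.filter_true_of_mem fun v hv => ?_).symm
        rintro rfl
        simp [S, Relation.ReflTransGen.refl] at hv
      rw [hsub, Finset.filter_filter]
      show ∑ i : {v // v ≠ v₀}, (if Relation.ReflTransGen (Adj fun e : T => ends e.1) v₀ i.1 then (0 : ℤ) else 1) *
        inc ℤ ends i.1 (eT j) = _
      rw [← Finset.sum_subtype (univ.filter fun v => v ≠ v₀) (p := fun v => v ≠ v₀) (by simp)
        (fun v => (if Relation.ReflTransGen (Adj fun e : T => ends e.1) v₀ v then (0 : ℤ) else 1) * inc ℤ ends v (eT j))]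
      rw [Finset.sum_filter, Finset.sum_filter]
      refine Finset.sum_congr rfl fun v _ => ?_
      by_cases hv : Relation.ReflTransGen (Adj fun e : T => ends e.1) v₀ v <;> simp [hv]
    have := Matrix.exists_vecMul_eq_zero_iff.1 ⟨g, hg, h0⟩
    rw [this]; ring

/-- Weighted matrix-tree theorem. -/
theorem matrix_tree (ends : E → V × V) (v₀ : V) (w : E → ℤ)
    [DecidablePred fun T : Finset E => IsSpanningTree ends T] :
    (incRed ℤ ends v₀ * Matrix.diagonal w * (incRed ℤ ends v₀).transpose).det =
      ∑ T ∈ univ.powerset.filter (fun T : Finset E => IsSpanningTree ends T), ∏ e ∈ T, w e := by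
  classical
  let p := Fintype.equivFin {v // v ≠ v₀}
  let q := Fintype.equivFin E
  set B := incRed ℤ ends v₀
  let A₁ : Fin (Fintype.card {v // v ≠ v₀}) → Fin (Fintype.card E) → ℤ :=
    fun i x => B (p.symm i) (q.symm x) * w (q.symm x)
  let A₂ : Fin (Fintype.card {v // v ≠ v₀}) → Fin (Fintype.card E) → ℤ :=
    fun i x => B (p.symm i) (q.symm x)
  have hdet : (B * Matrix.diagonal w * B.transpose).det =
      (Matrix.of fun i l => ∑ x, A₁ i x * A₂ l x).det := by
    rw [← Matrix.det_submatrix_equiv_self p.symm]
    congr 1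
    ext i l
    rw [Matrix.submatrix_apply, Matrix.mul_apply, Matrix.of_apply, ← Equiv.sum_comp q.symm]
    simp only [A₁, A₂, Matrix.mul_diagonal, Matrix.transpose_apply]
  rw [hdet, ← VerlindeH28.cauchy_binet]
  let eT : (Fin (Fintype.card {v // v ≠ v₀}) → Fin (Fintype.card E)) → ({v // v ≠ v₀} → E) :=
    fun a v => q.symm (a (p v))
  let im : (Fin (Fintype.card {v // v ≠ v₀}) → Fin (Fintype.card E)) → Finset E :=
    fun a => univ.image (eT a)
  have hterm : ∀ a : Fin (Fintype.card {v // v ≠ v₀}) → Fin (Fintype.card E), StrictAnti a →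
      (Matrix.of fun i j => A₁ i (a j)).det * (Matrix.of fun i j => A₂ i (a j)).det =
        if IsSpanningTree ends (im a) then ∏ e ∈ im a, w e else 0 := by
    intro a ha
    have hinj : Function.Injective (eT a) :=
      q.symm.injective.comp (ha.injective.comp p.injective)
    have h2 : (Matrix.of fun i j => A₂ i (a j)).det = (B.submatrix id (eT a)).det := by
      rw [← Matrix.det_submatrix_equiv_self p (Matrix.of fun i j => A₂ i (a j))]
      congr 1
      ext i j
      simp [A₂, eT, Matrix.submatrix_apply]
    have h1 : (Matrix.of fun i j => A₁ i (a j)).det = (∏ e ∈ im a, w e) * (B.submatrix id (eT a)).det := by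
      rw [Finset.prod_image fun x _ y _ h => hinj h, ← h2,
        show (∏ v, w (eT a v)) = ∏ j, w (q.symm (a j)) from Equiv.prod_comp p (fun j => w (q.symm (a j))),
        ← Matrix.det_mul_row]
      congr 1
      ext i j
      simp [A₁, A₂, mul_comm]
    rw [h1, h2, mul_assoc, ← sq, det_sq ends v₀ (eT a) hinj]
    split_ifs <;> simp
  rw [Finset.sum_congr rfl fun a ha => hterm a (mem_filter.1 ha).2, ← Finset.sum_filter, Finset.filter_filter]
  refine Finset.sum_bij (fun a _ => im a) (fun a ha => ?_) (fun a ha a' ha' h => ?_) (fun T hT => ?_)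
    (fun a _ => rfl)
  · simp only [mem_filter, mem_univ, true_and] at ha
    simp only [mem_filter, mem_powerset, subset_univ, true_and]
    exact ha.2
  · simp only [mem_filter, mem_univ, true_and] at ha ha'
    have h1 : univ.image a = univ.image a' := by
      have := congrArg (Finset.image q) h
      simp only [im, eT, Finset.image_image] at this
      have e : ∀ b : Fin (Fintype.card {v // v ≠ v₀}) → Fin (Fintype.card E),
          univ.image ((q : E → _) ∘ fun v => q.symm (b (p v))) = univ.image b := by
        intro b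
        ext x
        simp only [mem_image, mem_univ, true_and, Function.comp_apply, Equiv.apply_symm_apply]
        exact p.exists_congr_left.trans (by simp)
      rwa [e, e] at this
    have h2 : ((univ.image a : Finset _) : Set (Fin (Fintype.card E))) = ((univ.image a' : Finset _) : Set _) := by rw [h1]
    simp only [coe_image, coe_univ, Set.image_univ] at h2
    exact (StrictMono.range_inj (γ := (Fin (Fintype.card E))ᵒᵈ) (f := OrderDual.toDual ∘ a)
      (g := OrderDual.toDual ∘ a') (fun _ _ h => ha.1 h) (fun _ _ h => ha'.1 h)).1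
      (by rw [Set.range_comp, Set.range_comp, h2]) |> fun e => funext fun i => congrFun e i
  · simp only [mem_filter, mem_powerset, subset_univ, true_and] at hT
    have hc : (T.map q.toEmbedding).card = Fintype.card {v // v ≠ v₀} := by
      rw [card_map, Fintype.card_subtype_compl, Fintype.card_subtype_eq]
      have := ((isSpanningTree_iff ends T).1 hT).2
      omega
    let a : Fin (Fintype.card {v // v ≠ v₀}) → Fin (Fintype.card E) :=
      fun i => (T.map q.toEmbedding).orderEmbOfFin hc i.rev
    have ha : StrictAnti a := fun i j h =>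
      ((T.map q.toEmbedding).orderEmbOfFin hc).strictMono (Fin.rev_lt_rev.2 h)
    have him : im a = T := by
      refine Finset.eq_of_subset_of_card_le (fun e he => ?_) ?_
      · simp only [im, eT, mem_image, mem_univ, true_and] at he
        obtain ⟨v, rfl⟩ := he
        have := (T.map q.toEmbedding).orderEmbOfFin_mem hc (p v).rev
        rw [Finset.mem_map_equiv] at this
        exact this
      · rw [show im a = univ.image (q.symm ∘ a ∘ p) from rfl,
          Finset.card_image_of_injective _ (q.symm.injective.comp (ha.injective.comp p.injective)),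
          Finset.card_univ, ← hc, card_map]
    exact ⟨a, by simp only [mem_filter, mem_univ, true_and]; exact ⟨ha, him ▸ hT⟩, him⟩

omit [Fintype E] [DecidableEq E] in
theorem adj_symm (ends : E → V × V) {x y : V} (h : Adj ends x y) : Adj ends y x :=
  let ⟨e, he⟩ := h; ⟨e, he.symm⟩

/-- Removing an edge of an even edge set keeps a graph connected. -/
theorem connected_erase (ends : E → V × V) (T : Finset E) (hT : Connected (fun e : T => ends e.1))
    (C : Finset T) (hC : ∀ v, Even (endCount (fun e : T => ends e.1) C v)) (e₀ : T) (he₀ : e₀ ∈ C) :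
    Connected (fun e : (T.erase e₀.1 : Finset E) => ends e.1) := by
  refine ⟨hT.1, fun x y => ?_⟩
  classical
  set ends' : {e // e ∈ T.erase e₀.1} → V × V := fun e => ends e.1
  have key : Relation.ReflTransGen (Adj ends') (ends e₀.1).1 (ends e₀.1).2 := by
    by_contra hn
    let S := univ.filter fun v => Relation.ReflTransGen (Adj ends') (ends e₀.1).1 v
    have h1 : ∑ v ∈ S, ∑ e ∈ C, inc (ZMod 2) (fun e : T => ends e.1) v e = 0 :=
      Finset.sum_eq_zero fun v _ => (even_iff _ C v).1 (hC v)
    rw [Finset.sum_comm, ← Finset.add_sum_erase _ _ he₀, Finset.sum_eq_zero (s := C.erase e₀)] at h1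
    · rw [inc_sum, if_neg (by simpa [S] using hn), if_pos (by simp [S, Relation.ReflTransGen.refl])] at h1
      simp at h1
    intro e he
    rw [inc_sum]
    have hne : e.1 ∈ T.erase e₀.1 :=
      mem_erase.2 ⟨fun h => ne_of_mem_erase he (Subtype.ext h), e.2⟩
    have hadj : Adj ends' (ends e.1).1 (ends e.1).2 := ⟨⟨e.1, hne⟩, Or.inl rfl⟩
    have hiff : (ends e.1).1 ∈ S ↔ (ends e.1).2 ∈ S := by
      simp only [S, mem_filter, mem_univ, true_and]
      exact ⟨fun h => h.tail hadj, fun h => h.tail (adj_symm _ hadj)⟩
    simp only [hiff, sub_self]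
  induction hT.2 x y with
  | refl => exact Relation.ReflTransGen.refl
  | @tail b c _ hbc ih' =>
    refine ih'.trans ?_
    obtain ⟨⟨e, he⟩, he'⟩ := hbc
    by_cases hee : e = e₀.1
    · subst hee
      have key' := (haveI : Std.Symm (Adj ends') := ⟨fun x y h => adj_symm ends' h⟩; Std.Symm.symm (r := Relation.ReflTransGen (Adj ends')) _ _ key)
      rcases he' with he' | he' <;> simp only at he' <;> rw [he'] at key key'
      · exact key
      · exact key'
    · exact Relation.ReflTransGen.single ⟨⟨e, mem_erase.2 ⟨hee, he⟩⟩, he'⟩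

/-- A connected graph has a spanning tree, inside any connected spanning edge set. -/
theorem exists_spanningTree (ends : E → V × V) (T : Finset E)
    (hT : Connected (fun e : T => ends e.1)) : ∃ T' ⊆ T, IsSpanningTree ends T' := by
  induction T using Finset.strongInduction with
  | H T ih =>
    by_cases hf : DualGr.IsForest (V := V) (fun e : T => ends e.1)
    · exact ⟨T, subset_rfl, hT, hf⟩
    · simp only [DualGr.IsForest, not_forall, not_not] at hf
      obtain ⟨C, hC⟩ := hf
      obtain ⟨e₀, he₀⟩ := hC.1
      have hsub : T.erase e₀.1 ⊂ T := Finset.erase_ssubset e₀.2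
      suffices hc : Connected (fun e : (T.erase e₀.1 : Finset E) => ends e.1) by
        obtain ⟨T', h1, h2⟩ := ih _ hsub hc
        exact ⟨T', h1.trans hsub.subset, h2⟩
      exact connected_erase ends T hT C hC.2.1 e₀ he₀

theorem connected_univ {ends : E → V × V} (hG : Connected ends) :
    Connected (fun e : (univ : Finset E) => ends e.1) :=
  ⟨hG.1, fun x y => Relation.ReflTransGen.mono (fun _ _ ⟨e, he⟩ => ⟨⟨e, mem_univ e⟩, he⟩) _ _ (hG.2 x y)⟩

/-- A spanning tree contains no nonempty even edge set. -/
theorem not_even_of_subset {ends : E → V × V} {T : Finset E} (hT : IsSpanningTree ends T) (C : Finset E)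
    (hCT : C ⊆ T) (hne : C.Nonempty) : ¬ ∀ v, Even (endCount ends C v) := by
  intro hev
  let C' : Finset {e // e ∈ T} := univ.filter fun e => e.1 ∈ C
  have himg : C'.map (Function.Embedding.subtype _) = C := by
    ext e
    simp only [mem_map, C', mem_filter, mem_univ, true_and, Function.Embedding.coe_subtype,
      Subtype.exists, exists_and_left, exists_prop]
    exact ⟨fun ⟨a, h1, h2, h3⟩ => h3 ▸ h1, fun h => ⟨e, h, hCT h, rfl⟩⟩
  have hev' : ∀ v, Even (endCount (fun e : T => ends e.1) C' v) := fun v => by
    have := hev v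
    rw [← himg, endCount, Finset.sum_map] at this
    exact this
  obtain ⟨e, he⟩ := hne
  obtain ⟨C'', -, h2⟩ := exists_circuit_subset (fun e : T => ends e.1) C'
    ⟨⟨e, hCT he⟩, by simp [C', he]⟩ hev'
  exact hT.2 C'' h2

/-- In a tree the neighbour count is the valence. -/
theorem nbrCount_eq (ends : E → V × V) (T : Finset E) (hT : IsSpanningTree ends T) (v : V) :
    (∀ e ∈ T, (ends e).1 ≠ (ends e).2) ∧ nbrCount ends T v = endCount ends T v := by
  classical
  have hno := not_even_of_subset hT
  have hloop : ∀ e ∈ T, (ends e).1 ≠ (ends e).2 := by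
    intro e he h
    refine hno {e} (singleton_subset_iff.2 he) (singleton_nonempty e) fun w => ?_
    rw [endCount, Finset.sum_singleton, h]
    exact ⟨_, rfl⟩
  have hpar : ∀ e ∈ T, ∀ e' ∈ T, e ≠ e' → ∀ w,
      ¬ ((ends e = (v, w) ∨ ends e = (w, v)) ∧ (ends e' = (v, w) ∨ ends e' = (w, v))) := by
    rintro e he e' he' hne w ⟨h, h'⟩
    refine hno {e, e'} (by simp [insert_subset_iff, he, he']) (insert_nonempty _ _) fun x => ?_
    rw [endCount, Finset.sum_pair hne]
    rcases h with h | h <;> rcases h' with h' | h' <;> rw [h, h'] <;> simp only <;>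
      exact ⟨(if v = x then 1 else 0) + (if w = x then 1 else 0), by ring⟩
  refine ⟨hloop, ?_⟩
  let Tv := T.filter fun e => (ends e).1 = v ∨ (ends e).2 = v
  have h1 : endCount ends T v = Tv.card := by
    rw [endCount, Finset.card_filter]
    refine Finset.sum_congr rfl fun e he => ?_
    have := hloop e he
    split_ifs <;> simp_all
  rw [h1, nbrCount]
  symm
  refine Finset.card_bij (fun e _ => if (ends e).1 = v then (ends e).2 else (ends e).1)
    (fun e he => ?_) (fun e he e' he' heq => ?_) (fun w hw => ?_)
  · obtain ⟨heT, he⟩ := mem_filter.1 he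
    have := hloop e heT
    simp only [mem_filter, mem_univ, true_and]
    split_ifs with h
    · exact ⟨fun h' => this (h.trans h'.symm), e, heT, Or.inl (Prod.ext h rfl)⟩
    · exact ⟨h, e, heT, Or.inr (Prod.ext rfl (he.resolve_left h))⟩
  · obtain ⟨heT, he⟩ := mem_filter.1 he
    obtain ⟨heT', he'⟩ := mem_filter.1 he'
    by_contra hne
    refine hpar e heT e' heT' hne (if (ends e).1 = v then (ends e).2 else (ends e).1) ⟨?_, ?_⟩
    · show ends e = (v, (if (ends e).1 = v then (ends e).2 else (ends e).1)) ∨
        ends e = ((if (ends e).1 = v then (ends e).2 else (ends e).1), v)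
      split_ifs with h
      · exact Or.inl (Prod.ext h rfl)
      · exact Or.inr (Prod.ext rfl (he.resolve_left h))
    · rw [heq]
      split_ifs with h
      · exact Or.inl (Prod.ext h rfl)
      · exact Or.inr (Prod.ext rfl (he'.resolve_left h))
  · obtain ⟨-, hwv, e, he, h⟩ := mem_filter.1 hw
    refine ⟨e, mem_filter.2 ⟨he, ?_⟩, ?_⟩
    · rcases h with h | h <;> simp [h]
    · rcases h with h | h <;> simp [h, hwv]

end Groth.Agent.LabDetH28
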